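import Cfsg.Agent.H776.Co.Lin
import Cfsg.Agent.Lib.CoprimeHyperplane

/-!
# Basic linear algebra of `T = 3^{1+2}` on `V = F₃⁶` (for TEAM S5227)
-/

set_option autoImplicit false
set_option linter.style.longLine false

namespace Cfsg.Agent.H300.Co

open Cfsg.Agent.H776.Co.Lin Subgroup

/-- the first basis vector -/
def e0 : V := ![1, 0, 0, 0, 0, 0]

instance finiteL : Finite L :=
  Finite.of_injective (fun f : L => (f : V → V)) DFunLike.coe_injective

/-- the nilpotent part -/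
theorem tf_sub (a b c : ZMod 3) (v : V) : tf a b c v - v =
    ![2 * a * v 1 + 2 * c * v 3 + a ^ 2 * v 2 + 2 * a * c * v 4 + c ^ 2 * v 5,
      a * v 2 + c * v 4 + b * (v 3 + a * v 4 + c * v 5), 2 * b * v 4 + b ^ 2 * v 5, a * v 4 + c * v 5, b * v 5, 0] := by
  funext i
  fin_cases i <;> simp [tf, Matrix.vecHead, Matrix.vecTail] <;> ring

theorem mem_T {g : L} : g ∈ T ↔ ∃ a b c, g = tl a b c := Iff.rfl
theorem mem_U1 {g : L} : g ∈ U1 ↔ ∃ b c, g = tl 0 b c := Iff.rfl
theorem mem_U2 {g : L} : g ∈ U2 ↔ ∃ a c, g = tl a 0 c := Iff.rfl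

theorem tl_mem_T (a b c : ZMod 3) : tl a b c ∈ T := ⟨a, b, c, rfl⟩

theorem tf_e0 (a b c : ZMod 3) : tf a b c e0 = e0 := by
  funext i
  fin_cases i <;> simp [tf, e0]

/-- `tl` is injective -/
theorem tl_inj {a b c a' b' c' : ZMod 3} (h : tl a b c = tl a' b' c') : a = a' ∧ b = b' ∧ c = c' := by
  have h1 : ∀ v, tf a b c v = tf a' b' c' v := fun v => by
    rw [← tl_apply, ← tl_apply, h]
  have h2 := congrFun (h1 ![0, 0, 0, 0, 1, 0]) 3
  have h3 := congrFun (h1 ![0, 0, 0, 0, 0, 1]) 4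
  have h4 := congrFun (h1 ![0, 0, 0, 0, 0, 1]) 3
  simp [tf] at h2 h3 h4
  exact ⟨h2, h3, h4⟩

theorem tl_pow_three (a b c : ZMod 3) : (tl a b c) ^ 3 = 1 := by
  rw [pow_succ, pow_two, tl_mul, tl_mul, ← tl_one]
  congr 1
  · revert a; decide
  · revert b; decide
  · revert a b c; decide

/-- coordinates of `T` -/
def equivT : ZMod 3 × ZMod 3 × ZMod 3 ≃ T where
  toFun x := ⟨tl x.1 x.2.1 x.2.2, _, _, _, rfl⟩
  invFun g := (g.1 ![0, 0, 0, 0, 1, 0] 3, g.1 ![0, 0, 0, 0, 0, 1] 4, g.1 ![0, 0, 0, 0, 0, 1] 3)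
  left_inv x := by
    simp [tf]
  right_inv g := by
    obtain ⟨g, a, b, c, rfl⟩ := g
    apply Subtype.ext
    simp [tf]

theorem card_T : Nat.card T = 27 := by
  rw [← Nat.card_congr equivT]
  simp

/-- coordinates of `U2` -/
def equivU2 : ZMod 3 × ZMod 3 ≃ U2 where
  toFun x := ⟨tl x.1 0 x.2, _, _, rfl⟩
  invFun g := (g.1 ![0, 0, 0, 0, 1, 0] 3, g.1 ![0, 0, 0, 0, 0, 1] 3)
  left_inv x := by
    simp [tf]
  right_inv g := by
    obtain ⟨g, a, c, rfl⟩ := g
    apply Subtype.ext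
    simp [tf]

theorem card_U2 : Nat.card U2 = 9 := by
  rw [← Nat.card_congr equivU2]
  simp

/-- coordinates of `U1` -/
def equivU1 : ZMod 3 × ZMod 3 ≃ U1 where
  toFun x := ⟨tl 0 x.1 x.2, _, _, rfl⟩
  invFun g := (g.1 ![0, 0, 0, 0, 0, 1] 4, g.1 ![0, 0, 0, 0, 0, 1] 3)
  left_inv x := by
    simp [tf]
  right_inv g := by
    obtain ⟨g, b, c, rfl⟩ := g
    apply Subtype.ext
    simp [tf]

theorem card_U1 : Nat.card U1 = 9 := by
  rw [← Nat.card_congr equivU1]
  simp

theorem isPGroup_T : IsPGroup 3 T := IsPGroup.of_card (n := 3) (by rw [card_T]; norm_num)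

theorem U2_le_T : U2 ≤ T := by
  rintro _ ⟨a, c, rfl⟩
  exact tl_mem_T _ _ _

theorem U1_le_T : U1 ≤ T := by
  rintro _ ⟨a, c, rfl⟩
  exact tl_mem_T _ _ _

/-- `(x - 1)^2` for `x = tl a 0 c` -/
theorem sq_U2 (a c : ZMod 3) (v : V) :
    tf a 0 c (tf a 0 c v) + tf a 0 c v + v = (2 * (a ^ 2 * v 2 + 2 * a * c * v 4 + c ^ 2 * v 5)) • e0 := by
  have h3 : (3 : ZMod 3) = 0 := by decide
  funext i
  fin_cases i <;> simp [tf, e0]
  · linear_combination (v 0 + 2 * a * v 1 + 2 * c * v 3 + a ^ 2 * v 2 + 2 * a * c * v 4 + c ^ 2 * v 5) * h3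
  · linear_combination (v 1 + a * v 2 + c * v 4) * h3
  · linear_combination (v 2) * h3
  · linear_combination (v 3 + a * v 4 + c * v 5) * h3
  · linear_combination (v 4) * h3
  · linear_combination (v 5) * h3

/-- `(x - 1)^2` for `x = tl 0 b c` -/
theorem sq_U1 (b c : ZMod 3) (v : V) :
    tf 0 b c (tf 0 b c v) + tf 0 b c v + v = (v 5) • ![2 * c ^ 2, 2 * b * c, 2 * b ^ 2, 0, 0, 0] := by
  have h3 : (3 : ZMod 3) = 0 := by decide
  funext i
  fin_cases i <;> simp [tf]
  · linear_combination (v 0 + 2 * c * v 3 + c ^ 2 * v 5) * h3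
  · linear_combination (v 1 + c * v 4 + b * v 3 + b * c * v 5) * h3
  · linear_combination (v 2 + 2 * b * v 4 + b ^ 2 * v 5) * h3
  · linear_combination (v 3 + c * v 5) * h3
  · linear_combination (v 4 + b * v 5) * h3
  · linear_combination (v 5) * h3

/-- a nonzero `T`-invariant subspace contains `e0` -/
theorem e0_mem {W : Submodule (ZMod 3) V} (hT : ∀ t ∈ T, ∀ w ∈ W, t w ∈ W) {v : V} (hv : v ∈ W) (h0 : v ≠ 0) : e0 ∈ W := by
  have hN : ∀ a b c, ∀ w ∈ W, tf a b c w - w ∈ W := fun a b c w hw => by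
    rw [← tl_apply]
    exact W.sub_mem (hT _ (tl_mem_T a b c) w hw) hw
  have key : ∀ s : ZMod 3, s ≠ 0 → s • e0 ∈ W → e0 ∈ W := by
    intro s hs h
    have h1 := W.smul_mem s⁻¹ h
    rwa [smul_smul, inv_mul_cancel₀ hs, one_smul] at h1
  have h2 : (2 : ZMod 3) ≠ 0 := by decide
  by_cases h5 : v 5 = 0
  · by_cases h4 : v 4 = 0
    · by_cases h3 : v 3 = 0
      · by_cases h22 : v 2 = 0
        · by_cases h1 : v 1 = 0
          · refine key (v 0) ?_ ?_
            · intro h00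
              apply h0
              funext i
              fin_cases i <;> simp [*]
            · have : v 0 • e0 = v := by
                funext i
                fin_cases i <;> simp [e0, h1, h22, h3, h4, h5]
              rwa [this]
          · refine key (2 * v 1) (mul_ne_zero h2 h1) ?_
            have : (2 * v 1) • e0 = tf 1 0 0 v - v := by
              rw [tf_sub]
              funext i
              fin_cases i <;> simp [e0, h22, h3, h4, h5]
            rw [this]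
            exact hN _ _ _ _ hv
        · refine key (2 * v 2) (mul_ne_zero h2 h22) ?_
          have : (2 * v 2) • e0 = tf 1 0 0 (tf 1 0 0 v - v) - (tf 1 0 0 v - v) := by
            rw [tf_sub, tf_sub]
            funext i
            fin_cases i <;> simp [e0, h3, h4, h5]
          rw [this]
          exact hN _ _ _ _ (hN _ _ _ _ hv)
      · refine key (2 * v 3) (mul_ne_zero h2 h3) ?_
        have : (2 * v 3) • e0 = tf 0 0 1 v - v := by
          rw [tf_sub]
          funext i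
          fin_cases i <;> simp [e0, h4, h5]
        rw [this]
        exact hN _ _ _ _ hv
    · refine key (2 * v 4) (mul_ne_zero h2 h4) ?_
      have : (2 * v 4) • e0 = tf 1 0 0 (tf 0 0 1 v - v) - (tf 0 0 1 v - v) := by
        rw [tf_sub, tf_sub]
        funext i
        fin_cases i <;> simp [e0, h5]
      rw [this]
      exact hN _ _ _ _ (hN _ _ _ _ hv)
  · refine key (2 * v 5) (mul_ne_zero h2 h5) ?_
    have : (2 * v 5) • e0 = tf 0 0 1 (tf 0 0 1 v - v) - (tf 0 0 1 v - v) := by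
      rw [tf_sub, tf_sub]
      funext i
      fin_cases i <;> simp [e0]
    rw [this]
    exact hN _ _ _ _ (hN _ _ _ _ hv)

end Cfsg.Agent.H300.Co
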