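import Cfsg.Agent.H300.Co.Base
import Mathlib.LinearAlgebra.Matrix.GeneralLinearGroup.Card

/-!
# `O_3(G) = 1` and the order of `G` (TEAM S5227, task 3755)
-/

set_option autoImplicit false
set_option linter.style.longLine false

namespace Cfsg.Agent.H300.Co

open Cfsg.Agent.H776.Co.Lin Subgroup

/-- a normal `3`-subgroup of `G` lies in `T` -/
theorem le_T {G : Subgroup L} (hG : Syl G) (N : Subgroup L) (hN : N ≤ G) (hNn : ∀ g ∈ G, ∀ n ∈ N, g * n * g⁻¹ ∈ N)
    (hp : IsPGroup 3 N) : N ≤ T := by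
  have h3 : Fact (Nat.Prime 3) := ⟨Nat.prime_three⟩
  have hTN : T ≤ normalizer (N : Set L) := by
    intro t ht
    rw [mem_normalizer_iff]
    intro n
    refine ⟨fun h => hNn t (hG.le ht) n h, fun h => ?_⟩
    have := hNn t⁻¹ (G.inv_mem (hG.le ht)) _ h
    simpa [mul_assoc] using this
  have hsup : IsPGroup 3 ↥(N ⊔ T) := by
    rw [sup_comm]
    exact isPGroup_T.to_sup_of_normal_right' hp hTN
  have hle : N ⊔ T ≤ G := sup_le hN hG.le
  have h1 : T.relIndex (N ⊔ T) * (N ⊔ T).relIndex G = T.relIndex G := relIndex_mul_relIndex _ _ _ le_sup_right hle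
  have h2 : T.relIndex (N ⊔ T) = 1 := by
    obtain ⟨k, hk⟩ := (IsPGroup.iff_card.1 hsup)
    have h4 : T.relIndex (N ⊔ T) ∣ 3 ^ k := by
      rw [← hk]
      exact Subgroup.relIndex_dvd_card _ _
    obtain ⟨m, -, hm⟩ := (Nat.dvd_prime_pow Nat.prime_three).1 h4
    rcases Nat.eq_zero_or_pos m with rfl | hm0
    · rw [hm, pow_zero]
    · exfalso
      apply hG.idx
      rw [← h1, hm]
      exact Dvd.dvd.mul_right (dvd_pow_self 3 hm0.ne') _
  exact le_sup_left.trans (relIndex_eq_one.1 h2)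

theorem exists_z {N : Subgroup L} (hNT : N ≤ T) (hn : ∀ t ∈ T, ∀ n ∈ N, t * n * t⁻¹ ∈ N) (h1 : N ≠ ⊥) : tl 0 0 1 ∈ N := by
  have hnt : Nontrivial N := (Subgroup.nontrivial_iff_ne_bot N).2 h1
  obtain ⟨⟨u, hu⟩, hu1⟩ := exists_ne (1 : N)
  obtain ⟨a, b, c, rfl⟩ := hNT hu
  -- a nontrivial central element
  have key : ∀ c : ZMod 3, c ≠ 0 → tl 0 0 c ∈ N → tl 0 0 1 ∈ N := by
    intro c hc h
    have hcc : c = 1 ∨ c = -1 := by
      have key : ∀ c : ZMod 3, c ≠ 0 → c = 1 ∨ c = -1 := by decide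
      exact key c hc
    rcases hcc with rfl | rfl
    · exact h
    · have h2 := N.inv_mem h
      rw [tl_inv] at h2
      have h3 : tl (-0) (-0) (-(-1) + 0 * 0) = tl 0 0 1 := by congr 1 <;> ring
      rwa [h3] at h2
  have hcomm : ∀ x y : ZMod 3, tl 0 0 (x * b - a * y) ∈ N := by
    intro x y
    have h2 := N.mul_mem (hn (tl x y 0) (tl_mem_T _ _ _) _ hu) (N.inv_mem hu)
    rw [tl_inv, tl_inv, tl_mul, tl_mul, tl_mul] at h2
    convert h2 using 2 <;> ring
  by_cases ha : a = 0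
  · by_cases hb : b = 0
    · refine key c ?_ (by rwa [ha, hb] at hu)
      rintro rfl
      apply hu1
      apply Subtype.ext
      show tl a b 0 = 1
      rw [ha, hb, tl_one]
    · refine key (1 * b - a * 0) ?_ (hcomm 1 0)
      simpa using hb
  · refine key (0 * b - a * 1) ?_ (hcomm 0 1)
    simpa using ha

/-- **task 3755**: `O_3(G) = 1`. -/
theorem core {G : Subgroup L} (hG : Syl G) (h1 : ∃ g ∈ G, ∃ v, inW1 v ∧ ¬ inW1 (g v)) (h3 : ∃ g ∈ G, ∃ v, inW3 v ∧ ¬ inW3 (g v))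
    (N : Subgroup L) (hN : N ≤ G) (hNn : ∀ g ∈ G, ∀ n ∈ N, g * n * g⁻¹ ∈ N) (hp : IsPGroup 3 N) : N = ⊥ := by
  by_contra hne
  have hNT := le_T hG N hN hNn hp
  have hz := exists_z hNT (fun t ht => hNn t (hG.le ht)) hne
  -- the fixed space is `G`-invariant
  have hinv : ∀ g ∈ G, ∀ v, (∀ n ∈ N, n v = v) → ∀ n ∈ N, n (g v) = g v := by
    intro g hg v hv n hn
    have h4 := hNn g⁻¹ (G.inv_mem hg) n hn
    rw [inv_inv] at h4
    have h5 := hv _ h4
    have h6 : g ((g⁻¹ * n * g) v) = n (g v) := by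
      show (g * (g⁻¹ * n * g)) v = (n * g) v
      rw [show g * (g⁻¹ * n * g) = n * g by group]
    rw [← h6, h5]
  have hW3 : ∀ v, (∀ n ∈ N, n v = v) → inW3 v := by
    intro v hv
    have h4 := hv _ hz
    rw [tl_apply] at h4
    have h5 : tf 0 0 1 v - v = 0 := by rw [h4, sub_self]
    rw [tf_sub] at h5
    have g0 := congrFun h5 0
    have g1 := congrFun h5 1
    have g3 := congrFun h5 3
    have two' : (2 : ZMod 3) ≠ 0 := by decide
    simp [two'] at g0 g1 g3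
    simp [g3, two'] at g0
    exact ⟨g0, g1, g3⟩
  by_cases hU : N ≤ U1
  · have h4 : ∀ v, inW3 v → ∀ n ∈ N, n v = v := by
      rintro v ⟨k3, k4, k5⟩ n hn
      obtain ⟨b, c, rfl⟩ := hU hn
      rw [tl_apply, ← sub_eq_zero, tf_sub]
      funext i
      fin_cases i <;> simp [k3, k4, k5]
    obtain ⟨g, hg, v, hv, hgv⟩ := h3
    exact hgv (hW3 _ (hinv g hg v (h4 v hv)))
  · obtain ⟨n, hn, hnU⟩ := Set.not_subset.1 hU
    obtain ⟨a, b, c, rfl⟩ := hNT hn
    have ha : a ≠ 0 := by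
      rintro rfl
      exact hnU ⟨b, c, rfl⟩
    have h4 : ∀ v, inW1 v → ∀ n ∈ N, n v = v := by
      rintro v ⟨k1, k2, k3, k4, k5⟩ n hn
      obtain ⟨a, b, c, rfl⟩ := hNT hn
      rw [tl_apply, ← sub_eq_zero, tf_sub]
      funext i
      fin_cases i <;> simp [k1, k2, k3, k4, k5]
    have h5 : ∀ v, (∀ n ∈ N, n v = v) → inW1 v := by
      intro v hv
      obtain ⟨k3, k4, k5⟩ := hW3 v hv
      have h6 := hv _ hn
      rw [tl_apply] at h6
      have h7 : tf a b c v - v = 0 := by rw [h6, sub_self]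
      rw [tf_sub] at h7
      have g0 := congrFun h7 0
      have g1 := congrFun h7 1
      have two' : (2 : ZMod 3) ≠ 0 := by decide
      simp [k3, k4, k5, ha] at g0 g1
      simp [g1, ha, two'] at g0
      exact ⟨g0, g1, k3, k4, k5⟩
    obtain ⟨g, hg, v, hv, hgv⟩ := h1
    exact hgv (h5 _ (hinv g hg v (h4 v hv)))

/-- `|GL_6(3)|` -/
theorem card_L : Nat.card L = 2 ^ 13 * 3 ^ 15 * 5 * 7 * 11 ^ 2 * 13 ^ 2 := by
  have h3 : Fact (Nat.Prime 3) := ⟨Nat.prime_three⟩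
  have h1 : Nat.card (GL (Fin 6) (ZMod 3)) = Nat.card L :=
    Nat.card_congr (Matrix.GeneralLinearGroup.toLin.trans (LinearMap.GeneralLinearGroup.generalLinearEquiv (ZMod 3) V)).toEquiv
  rw [← h1, Matrix.card_GL_field]
  simp [Fin.prod_univ_succ, Nat.card_zmod]

/-- **task 3755**: the order of `G`. -/
theorem ord {G : Subgroup L} (hG : Syl G) : Nat.card G ∣ 2 ^ 13 * 3 ^ 3 * 5 * 7 * 11 ^ 2 * 13 ^ 2 := by
  have h1 : Nat.card T * T.relIndex G = Nat.card G := by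
    rw [← Subgroup.relIndex_bot_left, ← Subgroup.relIndex_bot_left G]
    exact relIndex_mul_relIndex _ _ _ bot_le hG.le
  have h2 : Nat.card G ∣ Nat.card L := card_subgroup_dvd_card G
  rw [card_L, ← h1, card_T] at h2
  have h4 : T.relIndex G ∣ 3 ^ 12 * (2 ^ 13 * 5 * 7 * 11 ^ 2 * 13 ^ 2) := by
    refine Nat.dvd_of_mul_dvd_mul_left (k := 27) (by norm_num) (h2.trans (dvd_of_eq (by norm_num)))
  have h5 : (T.relIndex G).Coprime (3 ^ 12) := by
    refine Nat.Coprime.pow_right 12 ?_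
    exact ((Nat.Prime.coprime_iff_not_dvd Nat.prime_three).2 hG.idx).symm
  have h6 := h5.dvd_of_dvd_mul_left h4
  rw [← h1, card_T]
  refine (Nat.mul_dvd_mul_left 27 h6).trans (dvd_of_eq (by norm_num))

end Cfsg.Agent.H300.Co
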